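import Cfsg.Agent.H125.Hall.Defs

/-!
# Frames: first lemmas (S2223, helper627)

`h : Fr ρ S t Q V0`, `U_i = mv ρ (t i)`.

* `fr_quat` : `a, b ∈ Q i`, `a * a = t i`, `b * a * b⁻¹ = a⁻¹`;
* `mem_mv` : `v ∈ U_i ↔ ρ (t i) v = -v`; 
* `fr_irr` : `Q i` is irreducible on `U_i`; `fr_triv` : `t_j` is trivial on `U_i` (`j ≠ i`);
* `fr_supeq` : a submodule invariant under all `Q i` is the sum of the `U_i` it contains and of `V0 ⊓ W`;
* `orth` : `B (v, w) = 0` for `v ∈ U_i` and `t_i w = w`.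
-/

set_option autoImplicit false

namespace Cfsg.Agent.H627.Hall

open Cfsg.Agent.Cit Cfsg.Agent.H125.Hall

section basic

variable {k : Type*} [Field k] {V : Type*} [AddCommGroup V] [Module k V] {A : Type*} [Group A]
  {ρ : A →* (V →ₗ[k] V)}

theorem rho_mul (x y : A) (v : V) : ρ (x * y) v = ρ x (ρ y v) := by rw [map_mul, Module.End.mul_apply]

theorem rho_one (v : V) : ρ 1 v = v := by rw [map_one, Module.End.one_apply]

theorem rho_inv_cancel (x : A) (v : V) : ρ x⁻¹ (ρ x v) = v := by rw [← rho_mul, inv_mul_cancel, rho_one]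

theorem rho_cancel_inv (x : A) (v : V) : ρ x (ρ x⁻¹ v) = v := by rw [← rho_mul, mul_inv_cancel, rho_one]

theorem rho_injective (x : A) : Function.Injective (ρ x) := fun v w h => by
  rw [← rho_inv_cancel (ρ := ρ) x v, h, rho_inv_cancel]

theorem sub_mem_mv (x : A) (v : V) : ρ x v - v ∈ mv ρ x := ⟨v, rfl⟩

theorem sub_mem_mv' (x : A) (v : V) : v - ρ x v ∈ mv ρ x := by
  rw [← neg_sub]
  exact (mv ρ x).neg_mem (sub_mem_mv x v)

theorem mem_mv (h2 : (2 : k) ≠ 0) {t : A} (ht : t * t = 1) {v : V} : v ∈ mv ρ t ↔ ρ t v = -v := by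
  constructor
  · rintro ⟨w, rfl⟩
    have h1 : ρ t (ρ t w) = w := by rw [← rho_mul, ht, rho_one]
    change ρ t (ρ t w - w) = -(ρ t w - w)
    rw [map_sub, h1]
    abel
  · intro h
    refine ⟨(-(2 : k)⁻¹) • v, ?_⟩
    change ρ t ((-(2 : k)⁻¹) • v) - (-(2 : k)⁻¹) • v = v
    rw [map_smul, h, smul_neg, neg_smul, neg_neg, sub_neg_eq_add, ← add_smul, ← two_mul, mul_inv_cancel₀ h2, one_smul]

theorem eq_zero_of_neg (h2 : (2 : k) ≠ 0) {v : V} (h : v = -v) : v = 0 := by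
  have h1 : (2 : k) • v = 0 := by
    rw [two_smul]
    nth_rw 1 [h]
    exact neg_add_cancel v
  exact (smul_eq_zero.1 h1).resolve_left h2

/-- commuting elements preserve `[V, t]` -/
theorem mv_inv {x t : A} (h : x * t = t * x) {v : V} (hv : v ∈ mv ρ t) : ρ x v ∈ mv ρ t := by
  obtain ⟨w, rfl⟩ := hv
  refine ⟨ρ x w, ?_⟩
  change ρ t (ρ x w) - ρ x w = ρ x (ρ t w - w)
  rw [map_sub, ← rho_mul, ← rho_mul, h]

/-- conjugation -/
theorem map_mv (x t : A) : (mv ρ t).map (ρ x) = mv ρ (x * t * x⁻¹) := by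
  ext v
  rw [Submodule.mem_map]
  constructor
  · rintro ⟨_, ⟨w, rfl⟩, rfl⟩
    refine ⟨ρ x w, ?_⟩
    change ρ (x * t * x⁻¹) (ρ x w) - ρ x w = ρ x (ρ t w - w)
    rw [← rho_mul, inv_mul_cancel_right, map_sub, rho_mul]
  · rintro ⟨w, rfl⟩
    refine ⟨ρ t (ρ x⁻¹ w) - ρ x⁻¹ w, ⟨ρ x⁻¹ w, rfl⟩, ?_⟩
    change _ = ρ (x * t * x⁻¹) w - w
    rw [map_sub, ← rho_mul, ← rho_mul, ← rho_mul, mul_inv_cancel, rho_one, mul_assoc]

theorem mem_cm {L : Subgroup A} {x : A} (hx : x ∈ L) (v : V) : ρ x v - v ∈ cm ρ L :=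
  Submodule.mem_iSup_of_mem x (Submodule.mem_iSup_of_mem hx (sub_mem_mv x v))

theorem cm_le {L : Subgroup A} {W : Submodule k V} (h : ∀ x ∈ L, ∀ v, ρ x v - v ∈ W) : cm ρ L ≤ W := by
  refine iSup_le fun x => iSup_le fun hx => ?_
  rintro _ ⟨v, rfl⟩
  exact h x hx v

/-- conjugation -/
theorem map_cm (x : A) (L : Subgroup A) : (cm ρ L).map (ρ x) = cm ρ (L.map (MulAut.conj x).toMonoidHom) := by
  apply le_antisymm
  · rw [Submodule.map_le_iff_le_comap]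
    refine cm_le fun y hy v => ?_
    rw [Submodule.mem_comap]
    have h1 : ρ x (ρ y v - v) = ρ (x * y * x⁻¹) (ρ x v) - ρ x v := by
      rw [← rho_mul, inv_mul_cancel_right, map_sub, rho_mul]
    rw [h1]
    have h2 : x * y * x⁻¹ ∈ L.map (MulAut.conj x).toMonoidHom := ⟨y, hy, rfl⟩
    exact mem_cm h2 _
  · refine cm_le ?_
    rintro _ ⟨y, hy, rfl⟩ v
    change ρ (x * y * x⁻¹) v - v ∈ _
    refine ⟨ρ y (ρ x⁻¹ v) - ρ x⁻¹ v, mem_cm hy _, ?_⟩
    rw [map_sub, ← rho_mul, ← rho_mul, ← rho_mul, mul_inv_cancel, rho_one, mul_assoc]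

theorem cm_inv {L : Subgroup A} {x : A} (h : ∀ y ∈ L, x * y * x⁻¹ ∈ L) {v : V} (hv : v ∈ cm ρ L) :
    ρ x v ∈ cm ρ L := by
  have h1 : ρ x v ∈ (cm ρ L).map (ρ x) := ⟨v, hv, rfl⟩
  rw [map_cm] at h1
  have h2 : L.map (MulAut.conj x).toMonoidHom ≤ L := by
    rintro _ ⟨y, hy, rfl⟩
    exact h y hy
  exact (cm_le (ρ := ρ) (L := L.map (MulAut.conj x).toMonoidHom) fun y hy v => mem_cm (h2 hy) v) h1

end basic

section frame

variable {k : Type*} [Field k] {V : Type*} [AddCommGroup V] [Module k V] {A : Type*} [Group A]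
  {ρ : A →* (V →ₗ[k] V)} {S : Sylow 2 A} {ι : Type*} {t : ι → A} {Q : ι → Subgroup A} {V0 : Submodule k V}

theorem fr_sq (h : Fr ρ S t Q V0) (i : ι) : t i * t i = 1 := by
  rw [← pow_two, ← h.ord i, pow_orderOf_eq_one]

theorem fr_memU (h : Fr ρ S t Q V0) {i : ι} {v : V} :
    v ∈ mv ρ (t i) ↔ ρ (t i) v = -v := mem_mv h.two (fr_sq h i)

/-- the elements of `Q i` act trivially on `C_V(t_i)` -/
theorem fr_Qtriv (h : Fr ρ S t Q V0) {i : ι} {x : A} (hx : x ∈ Q i) {v : V}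
    (hv : ρ (t i) v = v) : ρ x v = v := (h.QK i hx).2 v hv

theorem fr_Qcomm (h : Fr ρ S t Q V0) {i : ι} {x : A} (hx : x ∈ Q i) :
    x * t i = t i * x := (h.QK i hx).1

theorem fr_quat (h : Fr ρ S t Q V0) (i : ι) :
    ∃ a ∈ Q i, ∃ b ∈ Q i, a * a = t i ∧ b * a * b⁻¹ = a⁻¹ := by
  obtain ⟨z, -, -, hz⟩ := (h.isQ i).exists_inv
  obtain ⟨a, ha, ha4⟩ := (h.isQ i).exists_four
  obtain ⟨b, hb, hab⟩ := (h.isQ i).exists_inverts a ha
  refine ⟨a, ha, b, hb, ?_, hab⟩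
  rw [hz _ (h.mem i) (h.ord i), ← pow_two, AutQuat.IsQ.sq_eq hz ha ha4]

/-- **`Q i` is irreducible on `U_i`.** -/
theorem fr_irr (h : Fr ρ S t Q V0) [FiniteDimensional k V] (i : ι) {W : Submodule k V}
    (hW : W ≤ mv ρ (t i)) (hQ : ∀ x ∈ Q i, ∀ v ∈ W, ρ x v ∈ W) : W = ⊥ ∨ W = mv ρ (t i) := by
  by_cases h0 : W = ⊥
  · exact Or.inl h0
  by_cases h1 : W = mv ρ (t i)
  · exact Or.inr h1
  exfalso
  have hlt := Submodule.finrank_lt_finrank_of_lt (lt_of_le_of_ne hW h1)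
  rw [h.dim i] at hlt
  have hpos : 0 < Module.finrank k W := Module.finrank_pos_iff.2 (Submodule.nontrivial_iff_ne_bot.2 h0)
  have hd : Module.finrank k W = 1 := by omega
  obtain ⟨⟨w, hwW⟩, hw0, hw⟩ := finrank_eq_one_iff'.1 hd
  have hw0' : w ≠ 0 := fun h => hw0 (Subtype.ext h)
  obtain ⟨a, ha, b, hb, hat, hab⟩ := fr_quat h i
  obtain ⟨α, hα⟩ := hw ⟨ρ a w, hQ a ha w hwW⟩
  obtain ⟨β, hβ⟩ := hw ⟨ρ b w, hQ b hb w hwW⟩
  have hα' : ρ a w = α • w := (congrArg Subtype.val hα).symm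
  have hβ' : ρ b w = β • w := (congrArg Subtype.val hβ).symm
  have h3 : ρ (t i) w = -w := (fr_memU h).1 (hW hwW)
  have h4 : (α * α) • w = -w := by
    rw [← h3, ← hat, rho_mul, hα', map_smul, hα', smul_smul]
  have h5 : ρ (a * b * a) w = ρ b w := by
    congr 1
    have : b * a = a⁻¹ * b := by rw [← hab, inv_mul_cancel_right]
    rw [mul_assoc, this, mul_inv_cancel_left]
  rw [rho_mul, rho_mul, hα', map_smul, map_smul, hβ', map_smul, hα', smul_smul, smul_smul] at h5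
  have h6 : β ≠ 0 := by
    rintro rfl
    rw [zero_smul] at hβ'
    exact hw0' (rho_injective (ρ := ρ) b (hβ'.trans (map_zero _).symm))
  have h7 : (α * (β * α)) = β := by
    by_contra hne
    have h8 : (α * (β * α) - β) • w = 0 := by rw [sub_smul, ← mul_assoc, h5, sub_self]
    exact (smul_ne_zero (sub_ne_zero.2 hne) hw0') h8
  have h8 : α * α = 1 := by
    have : β * (α * α) = β * 1 := by rw [mul_one]; linear_combination h7
    exact mul_left_cancel₀ h6 this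
  rw [h8, one_smul] at h4
  exact hw0' (eq_zero_of_neg h.two h4)

/-- **`t_j` is trivial on `U_i`.** -/
theorem fr_triv (h : Fr ρ S t Q V0) [FiniteDimensional k V] [IsAlgClosed k] {i j : ι}
    (hij : i ≠ j) {v : V} (hv : v ∈ mv ρ (t i)) : ρ (t j) v = v := by
  have htj : ∀ x ∈ Q i, x * t j = t j * x := fun x hx => h.comm i j hij x hx (t j) (h.mem j)
  have hinv : ∀ x ∈ Q i, ∀ v ∈ mv ρ (t i) ⊓ mv ρ (t j), ρ x v ∈ mv ρ (t i) ⊓ mv ρ (t j) := fun x hx v hv =>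
    ⟨mv_inv (fr_Qcomm h hx) hv.1, mv_inv (htj x hx) hv.2⟩
  rcases fr_irr h i inf_le_left hinv with h0 | h1
  · have h2 : v - ρ (t j) v ∈ mv ρ (t i) ⊓ mv ρ (t j) := by
      refine ⟨(mv ρ (t i)).sub_mem hv (mv_inv ?_ hv), sub_mem_mv' _ _⟩
      exact (htj (t i) (h.mem i)).symm
    rw [h0, Submodule.mem_bot, sub_eq_zero] at h2
    exact h2.symm
  · exfalso
    have hle : mv ρ (t i) ≤ mv ρ (t j) := by
      rw [← h1]
      exact inf_le_right
    have heq : mv ρ (t i) = mv ρ (t j) :=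
      Submodule.eq_of_le_of_finrank_eq hle (by rw [h.dim i, h.dim j])
    obtain ⟨a, ha, b, hb, hat, hab⟩ := fr_quat h j
    -- an eigenvector of `a` in `U_j = U_i`
    have hinva : ∀ v ∈ mv ρ (t i), ρ a v ∈ mv ρ (t i) := by
      rw [heq]
      exact fun v hv => mv_inv (fr_Qcomm h ha) hv
    let f : mv ρ (t i) →ₗ[k] mv ρ (t i) := (ρ a).restrict hinva
    have hnt : Nontrivial (mv ρ (t i)) := Module.finrank_pos_iff.1 (by rw [h.dim i]; norm_num)
    obtain ⟨α, hα⟩ := Module.End.exists_eigenvalue f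
    obtain ⟨w, hw⟩ := hα.exists_hasEigenvector
    have hE : ∀ x ∈ Q i, ∀ v ∈ mv ρ (t i) ⊓ LinearMap.ker (ρ a - α • 1), ρ x v ∈
        mv ρ (t i) ⊓ LinearMap.ker (ρ a - α • 1) := by
      intro x hx v hv
      refine ⟨mv_inv (fr_Qcomm h hx) hv.1, ?_⟩
      have h3 : ρ a v = α • v := sub_eq_zero.1 hv.2
      change ρ a (ρ x v) - α • ρ x v = 0
      rw [← rho_mul, ← h.comm i j hij x hx a ha, rho_mul, h3, map_smul, sub_self]
    rcases fr_irr h i inf_le_left hE with h3 | h3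
    · have h4 : (w : V) ∈ mv ρ (t i) ⊓ LinearMap.ker (ρ a - α • 1) := by
        refine ⟨w.2, ?_⟩
        have h5 := congrArg Subtype.val hw.apply_eq_smul
        change ρ a (w : V) - α • (w : V) = 0
        rw [sub_eq_zero]
        exact h5
      rw [h3, Submodule.mem_bot] at h4
      exact hw.2 (Subtype.ext h4)
    · have h4 : ∀ v ∈ mv ρ (t i), ρ a v = α • v := by
        intro v hv
        rw [← h3] at hv
        exact sub_eq_zero.1 hv.2
      have hbi : ∀ v ∈ mv ρ (t i), ρ b v ∈ mv ρ (t i) := by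
        rw [heq]
        exact fun v hv => mv_inv (fr_Qcomm h hb) hv
      have hw0 : (w : V) ≠ 0 := fun h => hw.2 (Subtype.ext h)
      have h5 : ρ (a * b * a) (w : V) = ρ b w := by
        congr 1
        have : b * a = a⁻¹ * b := by rw [← hab, inv_mul_cancel_right]
        rw [mul_assoc, this, mul_inv_cancel_left]
      rw [rho_mul, rho_mul, h4 w w.2, map_smul, map_smul, h4 _ (hbi w w.2), smul_smul] at h5
      have h6 : ρ b (w : V) ≠ 0 := fun h0 => hw0 (rho_injective (ρ := ρ) b (h0.trans (map_zero _).symm))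
      have h7 : (α * α - 1) • ρ b (w : V) = 0 := by rw [sub_smul, h5, one_smul, sub_self]
      have h8 : α * α = 1 := sub_eq_zero.1 ((smul_eq_zero.1 h7).resolve_right h6)
      have h9 : ρ (t j) (w : V) = w := by
        rw [← hat, rho_mul, h4 w w.2, map_smul, h4 w w.2, smul_smul, h8, one_smul]
      have h10 : ρ (t j) (w : V) = -w := (fr_memU h).1 (heq ▸ w.2)
      exact hw0 (eq_zero_of_neg h.two (h9.symm.trans h10))

/-- the projection of `v` on `C_V(t_1, ..)` -/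
theorem fr_subsum (h : Fr ρ S t Q V0) [FiniteDimensional k V] [IsAlgClosed k]
    [Fintype ι] (v : V) : v - ∑ i, (2 : k)⁻¹ • (v - ρ (t i) v) ∈ V0 := by
  classical
  rw [h.V0_eq]
  intro j
  have h1 : ∀ i, i ≠ j → ρ (t j) ((2 : k)⁻¹ • (v - ρ (t i) v)) = (2 : k)⁻¹ • (v - ρ (t i) v) := by
    intro i hij
    exact fr_triv h hij ((mv ρ (t i)).smul_mem _ (sub_mem_mv' _ _))
  rw [map_sub, map_sum, ← Finset.add_sum_erase _ _ (Finset.mem_univ j),
    ← Finset.add_sum_erase Finset.univ (fun i => (2 : k)⁻¹ • (v - ρ (t i) v)) (Finset.mem_univ j),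
    Finset.sum_congr rfl fun i hi => h1 i (Finset.mem_erase.1 hi).1]
  have h2 : ρ (t j) ((2 : k)⁻¹ • (v - ρ (t j) v)) = -((2 : k)⁻¹ • (v - ρ (t j) v)) :=
    (fr_memU h).1 ((mv ρ (t j)).smul_mem _ (sub_mem_mv' _ _))
  rw [h2]
  have h3 : v = (2 : k)⁻¹ • (v - ρ (t j) v) + (2 : k)⁻¹ • (v - ρ (t j) v) + ρ (t j) v := by
    rw [← add_smul, ← two_mul, mul_inv_cancel₀ h.two, one_smul, sub_add_cancel]
  have key : ∀ x p s y : V, x = p + p + y → y - (-p + s) = x - (p + s) := by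
    intro x p s y hx
    rw [hx]
    abel
  exact key _ _ _ _ h3

/-- **Submodules invariant under all `Q i`.** -/
theorem fr_supeq (h : Fr ρ S t Q V0) [FiniteDimensional k V] [IsAlgClosed k] [Finite ι]
    {W : Submodule k V} (hW : ∀ i, ∀ x ∈ Q i, ∀ v ∈ W, ρ x v ∈ W) :
    W = (⨆ i, ⨆ _ : mv ρ (t i) ≤ W, mv ρ (t i)) ⊔ (V0 ⊓ W) := by
  classical
  have := Fintype.ofFinite ι
  apply le_antisymm
  · intro w hw
    have h1 : ∀ i, (2 : k)⁻¹ • (w - ρ (t i) w) ∈ (⨆ i, ⨆ _ : mv ρ (t i) ≤ W, mv ρ (t i)) ⊓ W := by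
      intro i
      have h2 : w - ρ (t i) w ∈ mv ρ (t i) ⊓ W := ⟨sub_mem_mv' _ _, W.sub_mem hw (hW i _ (h.mem i) w hw)⟩
      refine ⟨Submodule.smul_mem _ _ ?_, W.smul_mem _ h2.2⟩
      rcases fr_irr h i (W := mv ρ (t i) ⊓ W) inf_le_left (fun x hx v hv => ⟨mv_inv (fr_Qcomm h hx) hv.1, hW i x hx v hv.2⟩)
        with h3 | h3
      · rw [h3, Submodule.mem_bot] at h2
        rw [h2]
        exact Submodule.zero_mem _
      · have h4 : mv ρ (t i) ≤ W := by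
          rw [← h3]
          exact inf_le_right
        exact Submodule.mem_iSup_of_mem i (Submodule.mem_iSup_of_mem h4 h2.1)
    have h5 : w = ∑ i, (2 : k)⁻¹ • (w - ρ (t i) w) + (w - ∑ i, (2 : k)⁻¹ • (w - ρ (t i) w)) := by abel
    rw [h5]
    have h6 : ∑ i, (2 : k)⁻¹ • (w - ρ (t i) w) ∈ (⨆ i, ⨆ _ : mv ρ (t i) ≤ W, mv ρ (t i)) ⊓ W :=
      Submodule.sum_mem _ fun i _ => h1 i
    exact Submodule.add_mem_sup h6.1 ⟨fr_subsum h w, W.sub_mem hw h6.2⟩
  · exact sup_le (iSup_le fun i => iSup_le fun hi => hi) inf_le_right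

/-- orthogonality -/
theorem orth (h2 : (2 : k) ≠ 0) {B : LinearMap.BilinForm k V} (hB : ∀ a v w, B (ρ a v) (ρ a w) = B v w) {s : A} {v w : V}
    (hv : ρ s v = -v) (hw : ρ s w = w) : B v w = 0 := by
  have h1 := hB s v w
  rw [hv, hw, map_neg, LinearMap.neg_apply] at h1
  exact eq_zero_of_neg h2 h1.symm

end frame

end Cfsg.Agent.H627.Hall
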